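import Cfsg.Agent.Lib.Pres.PGLTwo
import Cfsg.Agent.Lib.Classical.PSLSimple

/-!
Embeddings of `PGL_2` over a finite field into a group from five relations among a root group, a
torus and a Weyl element.
-/

set_option autoImplicit false
set_option linter.unusedSectionVars false
set_option linter.style.haveILetI false

namespace CfsgLib.Spor.J4PGL23

open Matrix CfsgLib.Steinberg CfsgLib.Steinberg.R1Data CfsgLib.Pres.PGLTwo
open scoped MatrixGroups

variable {F : Type*} [Field F] {X : Type*} [Group X]

set_option maxHeartbeats 800000 in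
/-- A homomorphism on `PGL_2` from a root group, a torus and a Weyl element. -/
theorem exists_pgl_hom (a : F → X) (D : Fˣ →* X) (n : X) (aadd : ∀ t u, a t * a u = a (t + u))
    (hDa : ∀ c t, D c * a t * (D c)⁻¹ = a ((c : F) * t)) (hnD : ∀ c, n * D c * n⁻¹ = (D c)⁻¹)
    (hnn : n * n = 1) (hne : n = a 1 * (n * a 1 * n⁻¹) * a 1) :
    ∃ φ : ProjGenLinGroup (Fin 2) F →* X,
      ∀ t, φ (ProjGenLinGroup.mk (SpecialLinearGroup.toGL (up t))) = a t := by
  classical
  let R : R1Data F X :=
    { x := a
      hh := D.comp (MonoidHom.mk' (fun c => c * c) fun b c => mul_mul_mul_comm b c b c)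
      N := n
      x_add := aadd
      hh_x := fun c t => by
        show D (c * c) * a t * (D (c * c))⁻¹ = _
        rw [hDa, Units.val_mul]
      N_hh := fun c => by
        show n * D (c * c) * n⁻¹ = D (c⁻¹ * c⁻¹)
        rw [hnD, ← map_inv, _root_.mul_inv_rev]
      n_eq := fun c => by
        show D (c * c) * n = a c * (n * a (c : F)⁻¹ * n⁻¹) * a c
        have h1 : D c * n = n * (D c)⁻¹ := by
          have := hnD c⁻¹
          rw [map_inv, inv_inv, mul_inv_eq_iff_eq_mul] at this
          exact this.symm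
        have hc := hDa c (1 : F)
        have hc' := hDa c⁻¹ (1 : F)
        rw [mul_one] at hc hc'
        rw [map_inv, inv_inv, Units.val_inv_eq_inv_val] at hc'
        have L : D c * n * (D c)⁻¹ = D (c * c) * n := by
          rw [map_mul, mul_assoc (D c) (D c) n, h1, ← mul_assoc, h1]
        rw [← L, ← hc, ← hc']
        conv_lhs => rw [hne]
        calc D c * (a 1 * (n * a 1 * n⁻¹) * a 1) * (D c)⁻¹
            = (D c * a 1 * (D c)⁻¹) * ((D c * n) * a 1 * (D c * n)⁻¹) *
                (D c * a 1 * (D c)⁻¹) := by group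
          _ = _ := by rw [h1]; group
      N_sq := by
        show n * n = (D (-1 * -1))⁻¹
        rw [hnn]; simp }
  obtain ⟨φ, hφ⟩ := R.exists_hom
  have φup : ∀ t, φ (up t) = a t := fun t => (hφ _ t).1 (up_val t)
  have φw : ∀ c : Fˣ, φ (up (c : F) * dn (-(c : F)⁻¹) * up (c : F)) = D (c * c) * n :=
    hom_weyl R hφ
  have φwS : φ wS = n := by
    have := φw 1
    rw [Units.val_one, inv_one, ← wS_eq, mul_one, map_one, one_mul] at this
    exact this
  have hcov : ∀ c s, φ (sl (δ c * SpecialLinearGroup.toGL s)) = D c * φ s * (D c)⁻¹ := by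
    intro c
    have hkey : ∀ s s', SpecialLinearGroup.toGL s' = δ c * SpecialLinearGroup.toGL s * (δ c)⁻¹ →
        sl (δ c * SpecialLinearGroup.toGL s) = s' := fun s s' e => by
      refine SpecialLinearGroup.toGL_injective ?_
      rw [sl_eq, e, map_mul, det_δ,
        show GeneralLinearGroup.det (SpecialLinearGroup.toGL s) = 1 from Units.ext s.2, mul_one]
    have hmul : ∀ s s', sl (δ c * SpecialLinearGroup.toGL (s * s')) =
        sl (δ c * SpecialLinearGroup.toGL s) * sl (δ c * SpecialLinearGroup.toGL s') := by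
      intro s s'
      refine hkey _ _ ?_
      rw [map_mul, sl_eq, sl_eq]
      simp only [map_mul, det_δ,
        show GeneralLinearGroup.det (SpecialLinearGroup.toGL s) = 1 from Units.ext s.2,
        show GeneralLinearGroup.det (SpecialLinearGroup.toGL s') = 1 from Units.ext s'.2,
        mul_one]
      group
    let α : SL(2, F) →* SL(2, F) :=
      MonoidHom.mk' (fun s => sl (δ c * SpecialLinearGroup.toGL s)) hmul
    refine DFunLike.congr_fun (f := φ.comp α) (g := (MulAut.conj (D c)).toMonoidHom.comp φ)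
      (MonoidHom.eq_of_eqOn_dense closure_gens ?_)
    rintro _ (⟨t, rfl⟩ | rfl)
    · show φ (sl _) = D c * φ (up t) * (D c)⁻¹
      rw [hkey _ _ (δ_up c t).symm, φup, φup, hDa]
    · show φ (sl _) = D c * φ wS * (D c)⁻¹
      rw [hkey _ _ (δ_wS c).symm, φw, φwS, map_mul]
      have := hnD c⁻¹
      rw [map_inv, inv_inv, mul_inv_eq_iff_eq_mul] at this
      rw [mul_assoc (D c) (D c) n, ← this, ← mul_assoc, ← this]
  let Φ : GL (Fin 2) F →* X := MonoidHom.mk'
    (fun y => φ (sl y) * D (GeneralLinearGroup.det y)) fun y z => by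
    have e : sl (y * z) =
        sl y * sl (δ (GeneralLinearGroup.det y) * SpecialLinearGroup.toGL (sl z)) := by
      refine SpecialLinearGroup.toGL_injective ?_
      rw [map_mul, sl_eq, sl_eq, sl_eq, sl_eq]
      simp only [map_mul, map_inv, det_δ, mul_inv_cancel, mul_one]
      group
    rw [e, map_mul φ, hcov, map_mul, map_mul]
    group
  have hscal : Φ.comp (GeneralLinearGroup.scalar (Fin 2)) = 1 := by
    refine MonoidHom.ext fun c => ?_
    show φ (sl _) * D _ = 1
    have hd2 : GeneralLinearGroup.det (GeneralLinearGroup.scalar (Fin 2) c) = c * c := Units.ext (by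
      rw [GeneralLinearGroup.val_det_apply, GeneralLinearGroup.coe_scalar, det_fin_two]
      simp)
    have he : sl (GeneralLinearGroup.scalar (Fin 2) c) * wS =
        up ((c⁻¹ : Fˣ) : F) * dn (-(((c⁻¹ : Fˣ) : F))⁻¹) * up ((c⁻¹ : Fˣ) : F) := by
      refine Subtype.ext ?_
      show (sl (GeneralLinearGroup.scalar (Fin 2) c)).1 * (wS : SL(2, F)).1 = _
      rw [weyl_eq]
      show (GeneralLinearGroup.scalar (Fin 2) c * (δ _)⁻¹ : GL (Fin 2) F).1 * _ = _
      rw [hd2, ← map_inv, Units.val_mul, δ_val, GeneralLinearGroup.coe_scalar, wS_val]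
      have := c.ne_zero
      ext i j; fin_cases i <;> fin_cases j <;>
        simp [Matrix.mul_apply, Fin.sum_univ_two, this]
    have := congrArg φ he
    rw [map_mul φ, φw, φwS, mul_left_inj] at this
    rw [this, hd2, ← map_mul]
    simp
  refine ⟨ProjGenLinGroup.lift Φ hscal, fun t => ?_⟩
  rw [ProjGenLinGroup.lift_mk]
  show φ (sl _) * D _ = a t
  have h1 : GeneralLinearGroup.det (SpecialLinearGroup.toGL (up t : SL(2, F))) = 1 :=
    Units.ext (up t : SL(2, F)).2
  have : sl (SpecialLinearGroup.toGL (up t : SL(2, F))) = up t :=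
    SpecialLinearGroup.toGL_injective (by rw [sl_eq, h1, map_one, inv_one, mul_one])
  rw [this, h1, map_one, mul_one, φup]

end CfsgLib.Spor.J4PGL23

namespace CfsgLib.Spor.J4PGL23

open Matrix CfsgLib.Steinberg CfsgLib.Steinberg.R1Data CfsgLib.Pres.PGLTwo
open scoped MatrixGroups

/-- A homomorphism on `PGL_2` which is nontrivial on a root element is injective. -/
theorem pgl_hom_injective {F : Type*} [Field F] [Finite F] (hF : 3 < Nat.card F) {X : Type*}
    [Group X] (φ : ProjGenLinGroup (Fin 2) F →* X)
    (h1 : φ (ProjGenLinGroup.mk (SpecialLinearGroup.toGL (up 1))) ≠ 1) : Function.Injective φ := by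
  classical
  haveI : Fintype F := Fintype.ofFinite F
  haveI : IsSimpleGroup (ProjectiveSpecialLinearGroup (Fin 2) F) :=
    CfsgLib.Classical.isSimpleGroup_PSL_fin 2 le_rfl (fun _ => hF)
  set j := ProjectiveSpecialLinearGroup.toPGL (n := Fin 2) (R := F) with hj
  rw [← MonoidHom.ker_eq_bot_iff, eq_bot_iff]
  intro y hy
  have hbot : ∀ z, z ∈ φ.ker → z ∈ j.range → z = 1 := by
    rintro z hz ⟨s, rfl⟩
    rcases (inferInstance : (φ.comp j).ker.Normal).eq_bot_or_eq_top with h | h
    · have : s ∈ (φ.comp j).ker := hz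
      rw [h, Subgroup.mem_bot] at this
      rw [this, map_one]
    · refine absurd ?_ h1
      have : (QuotientGroup.mk (up 1 : SL(2, F)) : ProjectiveSpecialLinearGroup (Fin 2) F) ∈
          (φ.comp j).ker := h ▸ Subgroup.mem_top _
      exact this
  have hcomm : ∀ s : SL(2, F), y * ProjGenLinGroup.mk (SpecialLinearGroup.toGL s) =
      ProjGenLinGroup.mk (SpecialLinearGroup.toGL s) * y := by
    intro s
    set w := ProjGenLinGroup.mk (SpecialLinearGroup.toGL s) with hw
    refine mul_inv_eq_one.1 (hbot _ ?_ ?_)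
    · rw [MonoidHom.mem_ker] at hy ⊢
      simp [hy]
    · induction y using ProjGenLinGroup.induction_on with
      | mk g =>
        rw [hw, ← map_mul, ← map_mul, ← map_inv, ← map_mul, hj, mem_range_toPGL]
        refine ⟨1, ?_⟩
        simp [mul_comm]
  induction y using ProjGenLinGroup.induction_on with
  | mk g =>
    rw [Subgroup.mem_bot, ProjGenLinGroup.mk_eq_one,
      GeneralLinearGroup.mem_center_iff_val_mem_range_scalar]
    have key : ∀ s : SL(2, F), ∃ l : Fˣ, g.1 * s.1 = (l : F) • (s.1 * g.1) := by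
      intro s
      have h := hcomm s
      rw [← map_mul, ← map_mul, ProjGenLinGroup.mk_eq_mk_iff] at h
      obtain ⟨l, hl⟩ := h
      refine ⟨l⁻¹, ?_⟩
      have hl' := congrArg Units.val hl
      rw [Units.val_mul, Units.val_mul, Units.val_mul, GeneralLinearGroup.coe_scalar] at hl'
      change _ = s.1 * g.1 at hl'
      rw [← hl']
      ext i j
      simp [Matrix.mul_apply, Fin.sum_univ_two, Matrix.scalar_apply, Matrix.diagonal]
      fin_cases i <;> fin_cases j <;> simp <;> field_simp <;> ring
    obtain ⟨l, hl⟩ := key (up 1)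
    obtain ⟨m, hm⟩ := key (dn 1)
    have hdet : g.1 0 0 * g.1 1 1 - g.1 0 1 * g.1 1 0 ≠ 0 := by
      rw [← det_fin_two, ← GeneralLinearGroup.val_det_apply]; exact Units.ne_zero _
    have e00 := congrFun (congrFun hl 0) 0
    have e01 := congrFun (congrFun hl 0) 1
    have e10 := congrFun (congrFun hl 1) 0
    have e11 := congrFun (congrFun hl 1) 1
    have f01 := congrFun (congrFun hm 0) 1
    have f00 := congrFun (congrFun hm 0) 0
    simp [Matrix.mul_apply, Matrix.vecMul, dotProduct, Fin.sum_univ_two] at e00 e01 e10 e11 f00 f01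
    have hl1 : (l : F) = 1 := by
      by_contra hne
      have hne' : (1 - (l : F)) ≠ 0 := sub_ne_zero.2 (Ne.symm hne)
      have c0 : g.1 1 0 = 0 := by
        have : (1 - (l : F)) * g.1 1 0 = 0 := by linear_combination e10
        exact (mul_eq_zero.1 this).resolve_left hne'
      rw [c0] at e00
      have a0 : g.1 0 0 = 0 := by
        have : (1 - (l : F)) * g.1 0 0 = 0 := by linear_combination e00
        exact (mul_eq_zero.1 this).resolve_left hne'
      exact hdet (by rw [c0, a0]; ring)
    have c0 : g.1 1 0 = 0 := by rw [hl1] at e00; linear_combination -e00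
    have ad : g.1 0 0 = g.1 1 1 := by rw [hl1] at e01; linear_combination e01
    have hm1 : (m : F) = 1 := by
      by_contra hne
      have hne' : (1 - (m : F)) ≠ 0 := sub_ne_zero.2 (Ne.symm hne)
      have b0 : g.1 0 1 = 0 := (mul_eq_zero.1 (show (1 - (m : F)) * g.1 0 1 = 0 by
        linear_combination f01)).resolve_left hne'
      have a0 : g.1 0 0 = 0 := (mul_eq_zero.1 (show (1 - (m : F)) * g.1 0 0 = 0 by
        linear_combination f00 - b0)).resolve_left hne'
      exact hdet (by rw [b0, a0]; ring)
    have b0 : g.1 0 1 = 0 := by rw [hm1] at f00; linear_combination f00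
    refine ⟨g.1 0 0, ?_⟩
    ext i j
    fin_cases i <;> fin_cases j <;> simp [c0, b0, ad]

end CfsgLib.Spor.J4PGL23
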