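import Cfsg.Agent.Lib.Spor.J4Local.Lower
import Cfsg.Agent.Lib.Spor.J4PGL23.Data
import Cfsg.Agent.Lib.Spor.J4PGL23.Hom

/-!
`J4` contains a subgroup isomorphic to the projective general linear group of degree two over the
field with 23 elements.
-/

set_option autoImplicit false
set_option maxRecDepth 100000

namespace CfsgLib.Spor.J4PGL23

open CfsgLib.Spor.J4Rep Matrix

/-- a power of a packed matrix -/
def powB : ℕ → ℕ → ℕ
  | 0, _ => oneB 112
  | k + 1, P => mulB 112 P (powB k P)

theorem toM_powB (P : ℕ) : ∀ k, toM 112 (powB k P) = toM 112 P ^ k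
  | 0 => by rw [powB, toM_oneB, pow_zero]
  | k + 1 => by rw [powB, toM_mulB, toM_powB P k, pow_succ']

/-- the first word evaluated -/
def uM : ℕ := evalB uW

theorem eval_d : Nat.beq (evalB dW) dM = true := by decide +kernel
theorem eval_n : Nat.beq (evalB nW) nM = true := by decide +kernel
theorem chk_u : Nat.beq (powB 23 uM) (oneB 112) = true := by decide +kernel
theorem chk_d : Nat.beq (powB 22 dM) (oneB 112) = true := by decide +kernel
theorem chk_du : Nat.beq (mulB 112 dM uM) (mulB 112 (powB 5 uM) dM) = true := by decide +kernel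
theorem chk_nn : Nat.beq (mulB 112 nM nM) (oneB 112) = true := by decide +kernel
theorem chk_nd : Nat.beq (mulB 112 (mulB 112 nM dM) (mulB 112 nM dM)) (oneB 112) = true := by
  decide +kernel
theorem chk_un :
    Nat.beq (mulB 112 (mulB 112 uM (mulB 112 (mulB 112 nM uM) nM)) uM) nM = true := by
  decide +kernel

theorem rep_u :
    ((rep (wval uW) : GL (Fin 112) (ZMod 2)) : Matrix (Fin 112) (Fin 112) (ZMod 2)) = toM 112 uM :=
  rep_wval uW

theorem rep_d :
    ((rep (wval dW) : GL (Fin 112) (ZMod 2)) : Matrix (Fin 112) (Fin 112) (ZMod 2)) = toM 112 dM := by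
  rw [rep_wval, Nat.eq_of_beq_eq_true eval_d]

theorem rep_n :
    ((rep (wval nW) : GL (Fin 112) (ZMod 2)) : Matrix (Fin 112) (Fin 112) (ZMod 2)) = toM 112 nM := by
  rw [rep_wval, Nat.eq_of_beq_eq_true eval_n]

/-- the first element -/
noncomputable def u : Cfsg.Spor.J4 := wval uW
/-- the second element -/
noncomputable def d : Cfsg.Spor.J4 := wval dW
/-- the third element -/
noncomputable def n : Cfsg.Spor.J4 := wval nW

theorem u_pow : u ^ 23 = 1 := by
  refine J4Local.rep_inj (Units.ext ?_)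
  rw [map_pow, map_one, Units.val_pow_eq_pow_val, u, rep_u, Units.val_one, ← toM_powB,
    Nat.eq_of_beq_eq_true chk_u, toM_oneB]

theorem d_pow : d ^ 22 = 1 := by
  refine J4Local.rep_inj (Units.ext ?_)
  rw [map_pow, map_one, Units.val_pow_eq_pow_val, d, rep_d, Units.val_one, ← toM_powB,
    Nat.eq_of_beq_eq_true chk_d, toM_oneB]

theorem d_conj : d * u * d⁻¹ = u ^ 5 := by
  rw [mul_inv_eq_iff_eq_mul]
  refine J4Local.rep_inj (Units.ext ?_)
  rw [map_mul, map_mul, map_pow, Units.val_mul, Units.val_mul, Units.val_pow_eq_pow_val, d, u,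
    rep_d, rep_u, ← toM_powB, ← toM_mulB, ← toM_mulB, Nat.eq_of_beq_eq_true chk_du]

theorem n_sq : n * n = 1 := by
  refine J4Local.rep_inj (Units.ext ?_)
  rw [map_mul, map_one, Units.val_mul, n, rep_n, Units.val_one, ← toM_mulB,
    Nat.eq_of_beq_eq_true chk_nn, toM_oneB]

theorem n_inv : n⁻¹ = n := inv_eq_of_mul_eq_one_right n_sq

theorem n_conj : n * d * n⁻¹ = d⁻¹ := by
  rw [n_inv]
  refine eq_inv_of_mul_eq_one_left (J4Local.rep_inj (Units.ext ?_))
  rw [mul_assoc (n * d) n d, map_mul, map_mul, map_one, Units.val_mul, Units.val_mul, n, d, rep_n,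
    rep_d, Units.val_one, ← toM_mulB, ← toM_mulB, Nat.eq_of_beq_eq_true chk_nd, toM_oneB]

theorem n_eq : n = u * (n * u * n⁻¹) * u := by
  rw [n_inv]
  refine J4Local.rep_inj (Units.ext ?_)
  simp only [map_mul, Units.val_mul, n, u, rep_n, rep_u, ← toM_mulB]
  rw [Nat.eq_of_beq_eq_true chk_un]

theorem u_ne_one : u ≠ 1 := fun e =>
  wval_ne_of_neqB J4Local.ne_u23 (e.trans wval_nil.symm)

instance fact23 : Fact (Nat.Prime 23) := ⟨by norm_num⟩

/-- the powers of the first element as a root group -/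
noncomputable def root (t : ZMod 23) : Cfsg.Spor.J4 := u ^ t.val

theorem u_pow_mod (k : ℕ) : u ^ k = u ^ (k % 23) := pow_eq_pow_mod k u_pow

theorem root_add (s t : ZMod 23) : root s * root t = root (s + t) := by
  rw [root, root, root, ← pow_add, ZMod.val_add, ← u_pow_mod]

theorem d_root (t : ZMod 23) : d * root t * d⁻¹ = root (5 * t) := by
  rw [root, root, ← conj_pow, d_conj, ← pow_mul, ZMod.val_mul, ← u_pow_mod]
  rfl

/-- a generator of the units -/
def five : (ZMod 23)ˣ := ⟨5, 14, by decide, by decide⟩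

theorem five_gen : ∀ c : (ZMod 23)ˣ, ∃ i, i < 22 ∧ five ^ i = c := by decide +kernel

theorem five_pow : five ^ 22 = 1 := by decide +kernel

theorem five_inj : ∀ i < 22, ∀ j < 22, five ^ i = five ^ j → i = j := by decide +kernel

theorem exists_embedding :
    ∃ φ : ProjGenLinGroup (Fin 2) (ZMod 23) →* Cfsg.Spor.J4, Function.Injective φ := by
  choose lg hlt hlg using five_gen
  have key : ∀ i j : ℕ, five ^ i = five ^ j → d ^ i = d ^ j := fun i j e => by
    rw [pow_eq_pow_mod i five_pow, pow_eq_pow_mod j five_pow] at e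
    rw [pow_eq_pow_mod i d_pow, pow_eq_pow_mod j d_pow,
      five_inj _ (Nat.mod_lt _ (by norm_num)) _ (Nat.mod_lt _ (by norm_num)) e]
  let D : (ZMod 23)ˣ →* Cfsg.Spor.J4 := MonoidHom.mk' (fun c => d ^ lg c) fun b c => by
    rw [← pow_add]
    exact key _ _ (by rw [hlg, pow_add, hlg, hlg])
  have hD : D five = d := (key _ 1 (by rw [hlg, pow_one])).trans (pow_one d)
  have hDa : ∀ c t, D c * root t * (D c)⁻¹ = root ((c : ZMod 23) * t) := fun c => by
    obtain ⟨i, -, rfl⟩ := five_gen c
    induction i with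
    | zero => simp
    | succ i ih =>
      intro t
      rw [pow_succ', Units.val_mul, mul_assoc (five : ZMod 23), map_mul, hD,
        show (five : ZMod 23) = 5 from rfl, ← d_root, ← ih]
      group
  have hnD : ∀ c, n * D c * n⁻¹ = (D c)⁻¹ := fun c => by
    show n * d ^ lg c * n⁻¹ = (d ^ lg c)⁻¹
    rw [← conj_pow, n_conj, inv_pow]
  have h1 : root 1 = u := by rw [root, ZMod.val_one, pow_one]
  obtain ⟨φ, hφ⟩ := exists_pgl_hom root D n root_add hDa hnD n_sq (by rw [h1]; exact n_eq)
  refine ⟨φ, pgl_hom_injective (by rw [Nat.card_eq_fintype_card, ZMod.card]; norm_num) φ ?_⟩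
  rw [hφ, h1]
  exact u_ne_one

/-- A group isomorphic to `J4` has a subgroup isomorphic to `PGL₂(23)`. -/
theorem exists_pgl23 {G : Type*} [Group G] (e : G ≃* Cfsg.Spor.J4) :
    ∃ K : Subgroup G,
      Nonempty (↥K ≃* GL (Fin 2) (ZMod 23) ⧸ Subgroup.center (GL (Fin 2) (ZMod 23))) := by
  obtain ⟨φ, hφ⟩ := exists_embedding
  exact ⟨(e.symm.toMonoidHom.comp φ).range,
    ⟨(MonoidHom.ofInjective (f := e.symm.toMonoidHom.comp φ) (e.symm.injective.comp hφ)).symm⟩⟩

end CfsgLib.Spor.J4PGL23
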